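import Cfsg.Agent.DCoset.HSX.Table

/-! Generated by tools/dcoset/emit.py: rules and relators. -/

set_option Elab.async false

namespace Cfsg.Agent.DCoset.HSX

open Cfsg.Agent.DCoset Cfsg.Agent.CosetCert

def rSS : Store := (.leaf 0x10001000100010000000000000000)

noncomputable def rS : Nat → Nat := get16 rSS

def rDS : Store := (.leaf 0x10001000100010000000000000000)

noncomputable def rD : Nat → Nat := get16 rDS

def rUS : Store := (.node 5 (.node 2 (.node 1 (.leaf 0x1) (.leaf 0x10001)) (.node 3 (.leaf 0x20001) (.node 4 (.leaf 0x30001) (.leaf 0x1)))) (.node 7 (.node 6 (.leaf 0x10001) (.leaf 0x3000202000200020008)) (.node 8 (.leaf 0x3010301030301020008) (.node 9 (.leaf 0x3000202000200020008) (.leaf 0x3010301030301020008)))))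

def rVS : Store := (.node 5 (.node 2 (.node 1 (.leaf 0x1) (.leaf 0x10001)) (.node 3 (.leaf 0x20001) (.node 4 (.leaf 0x30001) (.leaf 0x10001)))) (.node 7 (.node 6 (.leaf 0x1) (.leaf 0x1010300020200020002000a)) (.node 8 (.leaf 0x3010301030301020000000a) (.node 9 (.leaf 0x3000202000200020008) (.leaf 0x3010301030301020008)))))

def invTS : Store := (.leaf 0x10000)

noncomputable def invT : Nat → Nat := get16 invTS

def mulTS : Store := (.leaf 0x1000200020001)

noncomputable def mulT : Nat → Nat := get16 mulTS

def relHdS : Store := (.leaf 0x1000100010001)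

noncomputable def relHd : Nat → Nat := get16 relHdS

def relLenS : Store := (.leaf 0x3000300030003)

noncomputable def relLen : Nat → Nat := get16 relLenS

def relWS : Store := (.node 6 (.node 3 (.node 1 (.leaf 0x30303010301030007) (.node 2 (.leaf 0x30303010301030002000200020202000f) (.leaf 0x30303010301030002000200020202000f))) (.node 4 (.leaf 0x30303010301030002000200020202000f) (.node 5 (.leaf 0x30303010301030002000200020202000f) (.leaf 0x20002000202020008)))) (.node 9 (.node 7 (.leaf 0x30303010301030002000200020202000f) (.node 8 (.leaf 0x20002000202020008) (.leaf 0x30303010301030007))) (.node 10 (.leaf 0x20002000202020008) (.node 11 (.leaf 0x30303010301030007) (.leaf 0x30303010301030002000200020202000f)))))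

def relTS : Store := (.leaf 0x100010001000100010001000100010001000100010001)

noncomputable def relT : Nat → Nat := get16 relTS

def relTlS : Store := (.node 2 (.node 1 (.leaf 0x3030301030103010008) (.leaf 0x20002000202020007)) (.node 3 (.leaf 0x30303010301030102000200020202000f) (.leaf 0x30303010301030102000200020202000f)))

/-- The rules and relators. -/
noncomputable def rules : Rules where
  nT := 2
  invT := invT
  mulT a b := mulT (Nat.add (Nat.mul a 2) b)
  nRule := 10
  rS := rS
  rD := rD
  rU := rUS.get
  rV := rVS.get
  nRel := 4
  relHd := relHd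
  relLen := relLen
  relW r m := relWS.get (Nat.add (Nat.mul r 3) m)
  relT r m := relT (Nat.add (Nat.mul r 3) m)
  relTl := relTlS.get

end Cfsg.Agent.DCoset.HSX
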